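import Mathlib
import Cfsg.Agent.H703.Lat.Basic
import Cfsg.Agent.H616.GalFam
import Cfsg.Agent.Prune
set_option linter.all false
prune_inst 0x7f00000000000000000000000000000000000000000000000000000000000000000000000000000000000000000000000000000000000000000000000000000000000000000000000000000000000000003fffffffffffffffffffffffffffbeffbdefffffff
open scoped Cfsg.Agent.FastGrp

/-!
# The lattice inequality for rational combinations with algebraic integral values

`lattice_algInt` : if `v : Irr(G) → ℚ` and all the values of `F = ∑_{χ ∈ B} v(χ) χ` are algebraic integers then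
`|v(1_G)| ≤ ∑_{χ ∈ B} v(χ)²`.  The values of `F` need not be rational: the conjugates of `F g` are the `F (g ^ m)`,
and the arithmetic-geometric mean inequality gives `∑ |F (g ^ m)| ≤ ∑ |F (g ^ m)|²`.
-/

set_option autoImplicit false
set_option linter.unusedSectionVars false

open Cfsg
open scoped ComplexConjugate

namespace Cfsg.Agent.H98.Lat

open Cfsg.Agent.Characters.Core Cfsg.Agent.Characters.GaloisBasic Cfsg.Agent.H616 Cfsg.Agent.Blocks
  Cfsg.Agent.Blocks.Basic

universe u

variable {G : Type u} [Group G] [Finite G]

variable {B : Finset (IrrCharacter G)}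

/-- The values of a rational combination at the powers of an element form a Galois family. -/
theorem galFam_comb {v : IrrCharacter G → ℚ}
    (hv : ∀ g : G, IsIntegral ℤ (∑ χ ∈ B, (v χ : ℂ) * (χ : G → ℂ) g)) (g : G) :
    GalFam (Nat.card G) fun k => ∑ χ ∈ B, (v χ : ℂ) * (χ : G → ℂ) (g ^ k) := by
  refine ⟨fun k => hv _, fun k k' hk => ?_, fun σ m hσ k => ?_⟩
  · have h1 : g ^ k = g ^ k' := by
      rw [pow_eq_pow_iff_modEq]
      exact hk.of_dvd (orderOf_dvd_natCard g)
    rw [h1]
  · rw [map_sum]
    refine Finset.sum_congr rfl fun χ _ => ?_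
    rw [map_mul, map_ratCast, map_apply σ hσ (isIrr_isCharacter χ.2) Nat.card_pos.ne' pow_card_eq_one', ← pow_mul]

end Cfsg.Agent.H98.Lat
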